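/-
Elementary consequences of the Dade set-up, and the stripping of commuting coprime parts by powers.
-/
import Mathlib
import Cfsg.Prelude.Def_OddOrderChar

set_option autoImplicit false

namespace CfsgLib.OddChar

variable {G : Type*} [Group G]

/-- There is an exponent that is `1` modulo `m` and `0` modulo the coprime number `n`. -/
theorem exists_strip_exponent {m n : ℕ} (h : Nat.Coprime m n) : ∃ k : ℕ, k ≡ 1 [MOD m] ∧ n ∣ k :=
  let ⟨k, h1, h2⟩ := Nat.chineseRemainder h 1 0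
  ⟨k, h1, Nat.modEq_zero_iff_dvd.1 h2⟩

theorem pow_eq_self_of_modEq {g : G} {k m : ℕ} (hk : k ≡ 1 [MOD m]) (hg : orderOf g ∣ m) :
    g ^ k = g := by
  conv_rhs => rw [← pow_one g]
  exact pow_eq_pow_iff_modEq.2 (hk.of_dvd hg)

theorem pow_eq_one_of_dvd' {g : G} {k n : ℕ} (hk : n ∣ k) (hg : orderOf g ∣ n) : g ^ k = 1 :=
  orderOf_dvd_iff_pow_eq_one.1 (hg.trans hk)

theorem mul_pow_strip {a u : G} (hau : Commute a u) {m n k : ℕ} (hk1 : k ≡ 1 [MOD m]) (hk2 : n ∣ k)
    (ha : orderOf a ∣ m) (hu : orderOf u ∣ n) : (a * u) ^ k = a := by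
  rw [hau.mul_pow, pow_eq_self_of_modEq hk1 ha, pow_eq_one_of_dvd' hk2 hu, mul_one]

/-- Conjugating a coprime commuting product onto another one carries first parts to first parts. -/
theorem conj_strip {g a u b v : G} (hau : Commute a u) (hbv : Commute b v) {m n : ℕ}
    (hmn : Nat.Coprime m n) (ha : orderOf a ∣ m) (hb : orderOf b ∣ m) (hu : orderOf u ∣ n)
    (hv : orderOf v ∣ n) (h : g * (a * u) * g⁻¹ = b * v) : g * a * g⁻¹ = b := by
  obtain ⟨k, hk1, hk2⟩ := exists_strip_exponent hmn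
  have h' := congrArg (· ^ k) h
  simp only [conj_pow, mul_pow_strip hau hk1 hk2 ha hu, mul_pow_strip hbv hk1 hk2 hb hv] at h'
  exact h'

theorem mem_centralizer_singleton {a c : G} :
    c ∈ Subgroup.centralizer ({a} : Set G) ↔ a * c = c * a := by
  simp [Subgroup.mem_centralizer_iff]

section Dade

variable {A : Set G} {L : Subgroup G} {H : G → Subgroup G}

theorem commute_of_mem_H (hD : Cfsg.DadeHypothesis A L H) {a u : G} (ha : a ∈ A) (hu : u ∈ H a) :
    Commute a u :=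
  mem_centralizer_singleton.1 (hD.le_centralizer a ha hu)

theorem self_mem_CL (hD : Cfsg.DadeHypothesis A L H) {a : G} (ha : a ∈ A) :
    a ∈ L ⊓ Subgroup.centralizer ({a} : Set G) :=
  ⟨hD.subset ha, mem_centralizer_singleton.2 rfl⟩

theorem orderOf_dvd_CL (hD : Cfsg.DadeHypothesis A L H) {a : G} (ha : a ∈ A) :
    orderOf a ∣ Nat.card ↥(L ⊓ Subgroup.centralizer ({a} : Set G)) :=
  Subgroup.orderOf_dvd_natCard _ (self_mem_CL hD ha)

/-- If conjugates of two cosets `a H(a)`, `b H(b)` meet, the conjugating element carries `a` to `b`. -/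
theorem coset_conj (hD : Cfsg.DadeHypothesis A L H) {a b u v g : G} (ha : a ∈ A) (hb : b ∈ A)
    (hu : u ∈ H a) (hv : v ∈ H b) (h : g * (a * u) * g⁻¹ = b * v) : g * a * g⁻¹ = b := by
  refine conj_strip (commute_of_mem_H hD ha hu) (commute_of_mem_H hD hb hv)
    (m := Nat.card ↥(L ⊓ Subgroup.centralizer ({a} : Set G)) *
      Nat.card ↥(L ⊓ Subgroup.centralizer ({b} : Set G)))
    (n := Nat.card (H a) * Nat.card (H b)) ?_ ((orderOf_dvd_CL hD ha).mul_right _)
    ((orderOf_dvd_CL hD hb).mul_left _) ((Subgroup.orderOf_dvd_natCard _ hu).mul_right _)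
    ((Subgroup.orderOf_dvd_natCard _ hv).mul_left _) h
  exact Nat.Coprime.symm <| Nat.Coprime.mul_left
    (Nat.Coprime.mul_right (hD.coprime a ha a ha) (hD.coprime a ha b hb))
    (Nat.Coprime.mul_right (hD.coprime b hb a ha) (hD.coprime b hb b hb))

/-- Every element of `C(a)` is a product of a member of `H a` and one of `C_L(a)`. -/
theorem centralizer_factor (hD : Cfsg.DadeHypothesis A L H) {a c : G} (ha : a ∈ A)
    (hc : c ∈ Subgroup.centralizer ({a} : Set G)) :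
    ∃ v ∈ H a, ∃ l ∈ L ⊓ Subgroup.centralizer ({a} : Set G), c = v * l := by
  have hle : L ⊓ Subgroup.centralizer ({a} : Set G) ≤ Subgroup.normalizer (H a : Set G) := by
    intro l hl
    refine Subgroup.mem_normalizer_iff.2 fun u => ⟨fun hu => hD.conj_mem_H a ha l hl.2 u hu, fun hu => ?_⟩
    have := hD.conj_mem_H a ha l⁻¹ (inv_mem hl.2) _ hu
    simpa [mul_assoc] using this
  rw [← hD.sup_eq a ha, ← SetLike.mem_coe,
    Subgroup.coe_mul_of_right_le_normalizer_left _ _ hle] at hc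
  obtain ⟨v, hv, l, hl, rfl⟩ := hc
  exact ⟨v, hv, l, hl, rfl⟩

/-- An element of `C(a)` of order coprime to `|C_L(a)|` lies in `H a`. -/
theorem mem_H_of_coprime (hD : Cfsg.DadeHypothesis A L H) {a c : G} (ha : a ∈ A)
    (hc : c ∈ Subgroup.centralizer ({a} : Set G)) {n : ℕ} (hn : c ^ n = 1)
    (hcop : Nat.Coprime n (Nat.card ↥(L ⊓ Subgroup.centralizer ({a} : Set G)))) : c ∈ H a := by
  obtain ⟨v, hv, l, hl, rfl⟩ := centralizer_factor hD ha hc
  have key : ∀ j : ℕ, ∃ w ∈ H a, (v * l) ^ j = w * l ^ j := by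
    intro j
    induction j with
    | zero => exact ⟨1, one_mem _, by simp⟩
    | succ j ih =>
      obtain ⟨w, hw, hw'⟩ := ih
      refine ⟨w * (l ^ j * v * (l ^ j)⁻¹),
        mul_mem hw (hD.conj_mem_H a ha _ (pow_mem hl.2 j) v hv), ?_⟩
      rw [pow_succ, hw']; group
  obtain ⟨w, hw, hw'⟩ := key n
  rw [hn] at hw'
  have hln : l ^ n ∈ H a ⊓ (L ⊓ Subgroup.centralizer ({a} : Set G)) :=
    ⟨by rw [eq_inv_mul_of_mul_eq hw'.symm, mul_one]; exact Subgroup.inv_mem _ hw, pow_mem hl n⟩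
  rw [hD.inf_eq_bot a ha, Subgroup.mem_bot] at hln
  have h1 : orderOf l ∣ Nat.gcd n (Nat.card ↥(L ⊓ Subgroup.centralizer ({a} : Set G))) :=
    Nat.dvd_gcd (orderOf_dvd_of_pow_eq_one hln) (Subgroup.orderOf_dvd_natCard _ hl)
  rw [hcop, Nat.dvd_one, orderOf_eq_one_iff] at h1
  rwa [h1, mul_one]

theorem conj_H_le (hD : Cfsg.DadeHypothesis A L H) {a x u : G} (ha : a ∈ A) (hx : x ∈ L)
    (hu : u ∈ H a) : x * u * x⁻¹ ∈ H (x * a * x⁻¹) := by
  refine mem_H_of_coprime hD (hD.conj_mem x hx a ha) ?_ (n := Nat.card (H a)) ?_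
    (hD.coprime a ha _ (hD.conj_mem x hx a ha))
  · exact mem_centralizer_singleton.2 ((commute_of_mem_H hD ha hu).map (MulAut.conj x).toMonoidHom)
  · rw [conj_pow, orderOf_dvd_iff_pow_eq_one.1 (Subgroup.orderOf_dvd_natCard _ hu), mul_one, mul_inv_cancel]

theorem H_conj (hD : Cfsg.DadeHypothesis A L H) {a x : G} (ha : a ∈ A) (hx : x ∈ L) :
    H (x * a * x⁻¹) = (H a).map (MulAut.conj x).toMonoidHom := by
  ext v
  simp only [Subgroup.mem_map, MulEquiv.coe_toMonoidHom, MulAut.conj_apply]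
  constructor
  · intro hv
    refine ⟨x⁻¹ * v * x⁻¹⁻¹, ?_, by group⟩
    have := conj_H_le hD (hD.conj_mem x hx a ha) (inv_mem hx) hv
    rwa [show x⁻¹ * (x * a * x⁻¹) * x⁻¹⁻¹ = a by group] at this
  · rintro ⟨u, hu, rfl⟩
    exact conj_H_le hD ha hx hu

end Dade

/-- Every element of a coset `H g` (`g` normalising `H`, coprime orders) is conjugate under `H`
to an element of `C_H(g) g`. -/
theorem coprime_coset_conj [Finite G] (H : Subgroup G) (g : G)
    (hg : g ∈ Subgroup.normalizer (H : Set G)) (hcop : Nat.Coprime (orderOf g) (Nat.card H)) (h : G)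
    (hh : h ∈ H) : ∃ x ∈ H, ∃ c ∈ H, c * g = g * c ∧ x * (h * g) * x⁻¹ = c * g := by
  classical
  have hnorm : ∀ x ∈ H, g * x * g⁻¹ ∈ H := fun x hx => (Subgroup.mem_normalizer_iff.1 hg x).1 hx
  let C : Subgroup G := H ⊓ Subgroup.centralizer ({g} : Set G)
  let f : ↥H × ↥C → ↥H := fun p =>
    ⟨(p.1 : G)⁻¹ * p.2 * (g * p.1 * g⁻¹),
      mul_mem (mul_mem (inv_mem p.1.2) p.2.2.1) (hnorm _ p.1.2)⟩
  have key : ∀ p q, f p = f q → (p.1 : G) * (q.1 : G)⁻¹ ∈ C ∧
      ((p.1 : G) * (q.1 : G)⁻¹) * q.2 * ((p.1 : G) * (q.1 : G)⁻¹)⁻¹ = p.2 := by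
    intro p q hpq
    have h0 : ((p.1 : G) * (q.1 : G)⁻¹) * ((q.2 : G) * g) * ((p.1 : G) * (q.1 : G)⁻¹)⁻¹
        = (p.2 : G) * g := by
      have h1 := congrArg (fun y : G => (p.1 : G) * y * g * (p.1 : G)⁻¹) (congrArg Subtype.val hpq)
      simp only [f] at h1
      calc _ = (p.1 : G) * ((q.1 : G)⁻¹ * q.2 * (g * q.1 * g⁻¹)) * g * (p.1 : G)⁻¹ := by group
        _ = (p.1 : G) * ((p.1 : G)⁻¹ * p.2 * (g * p.1 * g⁻¹)) * g * (p.1 : G)⁻¹ := h1.symm
        _ = _ := by group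
    have cq : Commute (q.2 : G) g := (mem_centralizer_singleton.1 q.2.2.2).symm
    have cp : Commute (p.2 : G) g := (mem_centralizer_singleton.1 p.2.2.2).symm
    have hz : ((p.1 : G) * (q.1 : G)⁻¹) * g * ((p.1 : G) * (q.1 : G)⁻¹)⁻¹ = g :=
      conj_strip cq.symm cp.symm hcop dvd_rfl dvd_rfl (Subgroup.orderOf_dvd_natCard _ q.2.2.1)
        (Subgroup.orderOf_dvd_natCard _ p.2.2.1) (by rw [← cq.eq, h0, cp.eq])
    have hz' : Commute ((p.1 : G) * (q.1 : G)⁻¹) g := mul_inv_eq_iff_eq_mul.1 hz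
    refine ⟨⟨mul_mem p.1.2 (Subgroup.inv_mem _ q.1.2), mem_centralizer_singleton.2 hz'.symm⟩, ?_⟩
    apply mul_right_cancel (b := g)
    rw [← h0, mul_assoc _ (_⁻¹) g, hz'.inv_left.eq]
    group
  have hsurj : ∃ p, f p = ⟨h, hh⟩ := by
    by_contra hne
    haveI := Fintype.ofFinite G
    have h1 : (Finset.univ : Finset (↥H × ↥C)).card ≤
        Fintype.card ↥C * (Finset.univ.image f).card := by
      refine Finset.card_le_mul_card_image _ _ fun y hy => ?_
      obtain ⟨q, -, rfl⟩ := Finset.mem_image.1 hy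
      refine Finset.card_le_card_of_injOn (t := Finset.univ)
        (fun p => if hp : (p.1 : G) * (q.1 : G)⁻¹ ∈ C then ⟨_, hp⟩ else (1 : ↥C))
        (fun _ _ => Finset.mem_coe.2 (Finset.mem_univ _)) ?_
      intro p hp p' hp' he
      simp only [Finset.coe_filter, Finset.mem_univ, true_and, Set.mem_ofPred_eq] at hp hp'
      obtain ⟨kp, kp'⟩ := key p q hp
      obtain ⟨lp, lp'⟩ := key p' q hp'
      simp only [dif_pos kp, dif_pos lp, Subtype.mk.injEq, mul_left_inj] at he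
      rw [he, lp'] at kp'
      exact Prod.ext (Subtype.ext he) (Subtype.ext kp'.symm)
    have h2 : (Finset.univ.image f).card < Fintype.card ↥H := by
      refine Finset.card_lt_univ_of_notMem (x := (⟨h, hh⟩ : ↥H)) fun hm => ?_
      obtain ⟨p, -, hp⟩ := Finset.mem_image.1 hm
      exact hne ⟨p, hp⟩
    rw [Finset.card_univ, Fintype.card_prod, mul_comm] at h1
    exact absurd h2 (not_lt.2 (Nat.le_of_mul_le_mul_left h1 Fintype.card_pos))
  obtain ⟨p, hp⟩ := hsurj
  refine ⟨p.1, p.1.2, p.2, p.2.2.1, (mem_centralizer_singleton.1 p.2.2.2).symm, ?_⟩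
  rw [show h = (p.1 : G)⁻¹ * p.2 * (g * p.1 * g⁻¹) from (congrArg Subtype.val hp).symm]
  group

end CfsgLib.OddChar
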